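import Groth.Prelude.Def_FlatCA
import Mathlib.RingTheory.Nakayama
import Mathlib.RingTheory.OrzechProperty
import Mathlib.RingTheory.FiniteType
import Mathlib.RingTheory.AdicCompletion.Basic
import Mathlib.LinearAlgebra.TensorProduct.Tower
import Mathlib.Algebra.DirectSum.Module
import Mathlib.LinearAlgebra.Finsupp.LinearCombination

/-!
# Associated primes of tensor products meet the closed fibre
-/

universe u

open TensorProduct

namespace Groth.Agent.AssSup4

section End

variable {R : Type u} [CommRing R] {N : Type u} [AddCommGroup N] [Module R N]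

/-- Every finite set of elements lies in a finite retract, up to fixing these elements. -/
def HasFiniteRetracts (R N : Type u) [CommRing R] [AddCommGroup N] [Module R N] : Prop :=
  ∀ T : Finset N, ∃ (F : Type u) (_ : AddCommGroup F) (_ : Module R F) (_ : Module.Finite R F)
    (i : F →ₗ[R] N) (p : N →ₗ[R] F), ∀ t ∈ T, i (p t) = t

theorem hasFiniteRetracts_of_projective [Module.Projective R N] : HasFiniteRetracts R N := by
  intro T
  classical
  obtain ⟨s, hs⟩ := Module.projective_def'.mp (inferInstance : Module.Projective R N)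
  let U : Finset N := T.biUnion fun t => (s t).support
  refine ⟨U → R, inferInstance, inferInstance, inferInstance,
    Fintype.linearCombination R (fun u : U => (u : N)),
    LinearMap.pi (fun u : U => Finsupp.lapply (u : N) ∘ₗ s), fun t ht => ?_⟩
  simp only [Fintype.linearCombination_apply, LinearMap.pi_apply, LinearMap.coe_comp,
    Function.comp_apply, Finsupp.lapply_apply]
  rw [Finset.sum_coe_sort U (fun u => s t u • u)]
  have hst : Finsupp.linearCombination R id (s t) = t := LinearMap.congr_fun hs t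
  conv_rhs => rw [← hst]
  rw [Finsupp.linearCombination_apply]
  refine (Finset.sum_subset (fun u hu => Finset.mem_biUnion.2 ⟨t, ht, hu⟩) ?_).symm
  intro u _ hu
  rw [Finsupp.notMem_support_iff.1 hu, zero_smul]

theorem hasFiniteRetracts_of_isInternal {ι : Type u} [DecidableEq ι] (G : ι → Submodule R N)
    (hG : DirectSum.IsInternal G) (hfin : ∀ i, Module.Finite R (G i)) : HasFiniteRetracts R N := by
  intro T
  classical
  let e := LinearEquiv.ofBijective (DirectSum.coeLinearMap G) hG
  let U : Finset ι := T.biUnion fun t => DFinsupp.support (e.symm t)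
  haveI := hfin
  refine ⟨∀ u : U, G u, inferInstance, inferInstance, inferInstance,
    ∑ u : U, (G u).subtype ∘ₗ LinearMap.proj u,
    LinearMap.pi (fun u : U => DirectSum.component R ι (fun i => G i) u ∘ₗ e.symm.toLinearMap),
    fun t ht => ?_⟩
  simp only [LinearMap.coe_sum, Finset.sum_apply, LinearMap.coe_comp, Function.comp_apply,
    LinearMap.proj_apply, LinearMap.pi_apply, Submodule.subtype_apply, LinearEquiv.coe_coe]
  conv_rhs => rw [← e.apply_symm_apply t]
  change (∑ u : U, ((e.symm t) (u : ι) : N)) = _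
  rw [Finset.sum_coe_sort U (fun u => ((e.symm t) u : N))]
  change _ = DirectSum.coeLinearMap G (e.symm t)
  conv_rhs => rw [← DirectSum.sum_support_of (e.symm t), map_sum]
  refine (Finset.sum_subset (fun u hu => Finset.mem_biUnion.2 ⟨t, ht, hu⟩) ?_).symm.trans ?_
  · intro u _ hu
    simp only [DFinsupp.mem_support_toFun, ne_eq, not_not] at hu
    simp [hu]
  · exact Finset.sum_congr rfl fun u _ => (DirectSum.coeLinearMap_of G u _).symm

/-- A fixed vector of `φ ⊗ M` vanishes if `φ` maps into `𝔪 N` and `N` has finite retracts. -/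
theorem eq_zero_of_rTensor_apply_eq [IsLocalRing R] (hN : HasFiniteRetracts R N)
    (φ : N →ₗ[R] N) (hφ : ∀ n, φ n ∈ IsLocalRing.maximalIdeal R • (⊤ : Submodule R N))
    {M : Type u} [AddCommGroup M] [Module R M] (x : N ⊗[R] M) (hx : φ.rTensor M x = x) :
    x = 0 := by
  classical
  obtain ⟨S, rfl⟩ := TensorProduct.exists_finset x
  obtain ⟨F, _, _, _, i, p, hip⟩ := hN (S.image Prod.fst)
  set x := ∑ z ∈ S, z.1 ⊗ₜ[R] z.2 with hxdef
  have hix : i.rTensor M (p.rTensor M x) = x := by
    simp only [hxdef, map_sum, LinearMap.rTensor_tmul]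
    exact Finset.sum_congr rfl fun z hz => by rw [hip _ (Finset.mem_image_of_mem _ hz)]
  let ψ : F →ₗ[R] F := p ∘ₗ φ ∘ₗ i
  have hψ : ψ.rTensor M (p.rTensor M x) = p.rTensor M x := by
    simp only [ψ, LinearMap.rTensor_comp_apply, hix, hx]
  have hmem : ∀ a, ψ a ∈ IsLocalRing.maximalIdeal R • (⊤ : Submodule R F) := fun a =>
    (Submodule.map_smul'' (IsLocalRing.maximalIdeal R) ⊤ p).trans_le
      (Submodule.smul_mono le_rfl le_top) (Submodule.mem_map_of_mem (hφ (i a)))
  have hsurj : Function.Surjective (LinearMap.id - ψ : F →ₗ[R] F) := by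
    rw [← LinearMap.range_eq_top]
    refine top_le_iff.1 (Submodule.le_of_le_smul_of_le_jacobson_bot (I := IsLocalRing.maximalIdeal R)
      Module.Finite.fg_top (IsLocalRing.maximalIdeal_le_jacobson _) fun a _ => ?_)
    exact Submodule.mem_sup.2 ⟨_, ⟨a, rfl⟩, ψ a, hmem a, by simp⟩
  let E := LinearEquiv.ofBijective (LinearMap.id - ψ)
    (OrzechProperty.bijective_of_surjective_endomorphism _ hsurj)
  have : p.rTensor M x = 0 := by
    apply (E.rTensor M).injective
    rw [map_zero]
    change (LinearMap.id - ψ).rTensor M (p.rTensor M x) = 0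
    rw [LinearMap.rTensor_sub, LinearMap.sub_apply, hψ, LinearMap.rTensor_id_apply, sub_self]
  rw [← hix, this, map_zero]

/-- If `N` is complete for `I`, then `1 - φ` is bijective whenever `φ` maps into `I N`. -/
theorem bijective_id_sub (I : Ideal R) [IsAdicComplete I N] (φ : N →ₗ[R] N)
    (hφ : ∀ n, φ n ∈ I • (⊤ : Submodule R N)) :
    Function.Bijective (LinearMap.id - φ : N →ₗ[R] N) := by
  have hstep : ∀ (k : ℕ) (n : N), n ∈ (I ^ k • ⊤ : Submodule R N) →
      φ n ∈ (I ^ (k + 1) • ⊤ : Submodule R N) := fun k n hn => by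
    have h1 : φ n ∈ I ^ k • (I • ⊤ : Submodule R N) := by
      refine (Submodule.map_smul'' (I ^ k) ⊤ φ).trans_le (Submodule.smul_mono le_rfl ?_)
        (Submodule.mem_map_of_mem hn)
      rintro - ⟨a, -, rfl⟩
      exact hφ a
    rwa [← Submodule.mul_smul, ← pow_succ] at h1
  have hpow : ∀ (k : ℕ) (n : N), (φ ^ k) n ∈ (I ^ k • ⊤ : Submodule R N) := by
    intro k n
    induction k with
    | zero => rw [pow_zero, Ideal.one_eq_top, Submodule.top_smul]; exact trivial
    | succ k ih =>
      rw [pow_succ' φ k]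
      exact hstep k _ ih
  refine ⟨(injective_iff_map_eq_zero _).2 fun x hx => ?_, fun y => ?_⟩
  · rw [LinearMap.sub_apply, LinearMap.id_apply, sub_eq_zero] at hx
    refine IsHausdorff.haus (inferInstance : IsHausdorff I N) x fun k => ?_
    rw [SModEq.zero]
    induction k with
    | zero => rw [pow_zero, Ideal.one_eq_top, Submodule.top_smul]; exact trivial
    | succ k ih => rw [hx]; exact hstep k x ih
  · let f : ℕ → N := fun k => ∑ j ∈ Finset.range k, (φ ^ j) y
    obtain ⟨L, hL⟩ := IsPrecomplete.prec (inferInstance : IsPrecomplete I N) (f := f) <| by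
      intro m n hmn
      rw [SModEq.sub_mem, ← neg_sub]
      refine neg_mem ?_
      rw [Finset.sum_range_sub_sum_range hmn]
      exact Submodule.sum_mem _ fun j hj => Submodule.smul_mono_left
        (Ideal.pow_le_pow_right (Finset.mem_filter.1 hj).2) (hpow j y)
    refine ⟨L, sub_eq_zero.1 <| IsHausdorff.haus (inferInstance : IsHausdorff I N) _ fun k => ?_⟩
    rw [SModEq.zero]
    have h1 : f k - L ∈ (I ^ k • ⊤ : Submodule R N) := SModEq.sub_mem.1 (hL k)
    have h2 : ((LinearMap.id : N →ₗ[R] N) - φ) (f k) = y - (φ ^ k) y := by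
      simp only [f, map_sum, LinearMap.sub_apply, LinearMap.id_apply]
      refine (Finset.sum_congr rfl fun j _ => ?_).trans
        ((Finset.sum_range_sub' (fun j => (φ ^ j) y) k).trans (by simp))
      rw [pow_succ']; rfl
    have h3 : ((LinearMap.id : N →ₗ[R] N) - φ) L - y =
        -(((LinearMap.id : N →ₗ[R] N) - φ) (f k - L)) - (φ ^ k) y := by
      rw [map_sub, h2]; abel
    rw [h3]
    exact sub_mem (neg_mem ((Submodule.map_smul'' (I ^ k) ⊤ (LinearMap.id - φ)).trans_le
      (Submodule.smul_mono le_rfl le_top) (Submodule.mem_map_of_mem h1))) (hpow k y)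

end End

section Ass

variable {R S : Type u} [CommRing R] [CommRing S] [Algebra R S] {N : Type u} [AddCommGroup N]
  [Module S N] [Module R N] [IsScalarTower R S N]

theorem smul_mem_smul_top (I : Ideal R) {b : S} (hb : b ∈ I.map (algebraMap R S)) (n : N) :
    b • n ∈ I • (⊤ : Submodule R N) := by
  induction hb using Submodule.span_induction generalizing n with
  | mem b hb =>
    obtain ⟨r, hr, rfl⟩ := hb
    rw [algebraMap_smul]
    exact Submodule.smul_mem_smul hr trivial
  | zero => rw [zero_smul]; exact zero_mem _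
  | add a b _ _ iha ihb => rw [add_smul]; exact add_mem (iha n) (ihb n)
  | smul a b _ ih =>
    rw [smul_eq_mul, mul_comm, mul_smul]
    exact ih (a • n)

/-- An associated prime of `N ⊗ M` comaximal with `I S` gives a non-zero fixed vector. -/
theorem exists_fixed_of_sup_eq_top (I : Ideal R) {M : Type u} [AddCommGroup M] [Module R M]
    (q : Ideal S) (hq : q ∈ FlatCA.ass S (N ⊗[R] M)) (h : q ⊔ I.map (algebraMap R S) = ⊤) :
    ∃ (x : N ⊗[R] M) (φ : N →ₗ[R] N), x ≠ 0 ∧ (∀ n, φ n ∈ I • (⊤ : Submodule R N)) ∧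
      φ.rTensor M x = x := by
  obtain ⟨hqp, x, hx⟩ := hq
  obtain ⟨a, ha, b, hb, hab⟩ := Submodule.mem_sup.1 (h ▸ Submodule.mem_top : (1 : S) ∈ q ⊔ _)
  refine ⟨x, ((LinearMap.lsmul S N b).restrictScalars R), ?_, smul_mem_smul_top I hb, ?_⟩
  · rintro rfl
    exact hqp.ne_top (by simpa [Submodule.annihilator_bot] using hx)
  · have h0 : a • x = 0 := by
      rw [hx, Submodule.mem_annihilator_span_singleton] at ha
      exact ha
    have : ((LinearMap.lsmul S N b).restrictScalars R).rTensor M x = b • x := by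
      clear hx h0
      induction x using TensorProduct.induction_on with
      | zero => simp
      | tmul n m => simp [TensorProduct.smul_tmul']
      | add y z hy hz => rw [map_add, hy, hz, smul_add]
    rw [this]
    calc b • x = a • x + b • x := by rw [h0, zero_add]
      _ = x := by rw [← add_smul, hab, one_smul]

theorem sup_ne_top_of_hasFiniteRetracts [IsLocalRing R] (hN : HasFiniteRetracts R N)
    {M : Type u} [AddCommGroup M] [Module R M] (q : Ideal S) (hq : q ∈ FlatCA.ass S (N ⊗[R] M)) :
    q ⊔ (IsLocalRing.maximalIdeal R).map (algebraMap R S) ≠ ⊤ := fun h => by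
  obtain ⟨x, φ, hx0, hφ, hx⟩ := exists_fixed_of_sup_eq_top _ q hq h
  exact hx0 (eq_zero_of_rTensor_apply_eq hN φ hφ x hx)

theorem sup_ne_top_of_isAdicComplete (I : Ideal R) [IsAdicComplete I N]
    {M : Type u} [AddCommGroup M] [Module R M] (q : Ideal S) (hq : q ∈ FlatCA.ass S (N ⊗[R] M)) :
    q ⊔ I.map (algebraMap R S) ≠ ⊤ := fun h => by
  obtain ⟨x, φ, hx0, hφ, hx⟩ := exists_fixed_of_sup_eq_top _ q hq h
  refine hx0 (((LinearEquiv.ofBijective _ (bijective_id_sub I φ hφ)).rTensor M).injective ?_)
  rw [map_zero]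
  change (LinearMap.id - φ).rTensor M x = 0
  rw [LinearMap.rTensor_sub, LinearMap.sub_apply, hx, LinearMap.rTensor_id_apply, sub_self]

end Ass

end Groth.Agent.AssSup4
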